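import Groth.Agent.ShStab.K981.SecBound
import Groth.Agent.ShStab.K781.Base

/-!
# Iterated multiplication by a section of an invertible module (namespace `K981.Sw`)

* `mapT_mulS`: `N ⊗ (mulS s G) = mulS s (N ⊗ G)`, `map_nuG`: `(nuG s G) ⊗ N = nuG s (G ⊗ N)` for `N` invertible.
* `iterR N a E = (..(E ⊗ N) ⊗ N ..) ⊗ N`, `nuI s a E : E ⟶ iterR N a E`, `iterIso : iterT N a E ≅ iterR N a E` with
  `mulI s a E ≫ iterIso = nuI s a E`, `cokIso : cokernel (mulI s a E) ≅ cokernel (nuI s a E)`.
* `mono_nuI`, `mono_mulI`.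
-/

set_option autoImplicit false
universe u
open CategoryTheory CategoryTheory.Limits AlgebraicGeometry TopologicalSpace Polynomial

namespace K981.Sw

open Groth.Agent Groth.Agent.Fdesc Groth.Agent.Fdesc.LocGen Groth.Agent.Fga.RegSec K847.Pn
  Groth.Agent.PerfB.TensExact K981.SecBound K781.Base

variable {X : Scheme.{u}} {N : X.Modules}

/-! ### The swap on `N ⊗ N` -/

theorem tmul_comm_left (hN : PicF.IsInvertible N) (G : X.Modules) {U : X.Opens} (n n' : Γ(N, U)) (g : Γ(G, U)) :
    LocGen.tmul n (LocGen.tmul n' g) = LocGen.tmul n' (LocGen.tmul n g) := by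
  choose V e hx he using (isInvertible_iff N).mp hN
  refine res_ext _ (fun x : U => V x.1 ⊓ U) (fun x => inf_le_right)
    (fun x hxU => Opens.mem_iSup.mpr ⟨⟨x, hxU⟩, hx x, hxU⟩) (fun x => ?_)
  have hg : IsGen (res N inf_le_left (e x.1) : Γ(N, V x.1 ⊓ U)) := (he x.1).res _
  obtain ⟨a, ha⟩ := hg.exists_eq (res N inf_le_right n)
  obtain ⟨b, hb⟩ := hg.exists_eq (res N inf_le_right n')
  rw [res_tmul, res_tmul, res_tmul, res_tmul, ha, hb, smul_tmul, smul_tmul, smul_tmul, smul_tmul, tmul_smul,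
    tmul_smul, smul_smul, smul_smul, mul_comm]

theorem tmul_comm_right (hN : PicF.IsInvertible N) (G : X.Modules) {U : X.Opens} (n n' : Γ(N, U)) (g : Γ(G, U)) :
    LocGen.tmul (LocGen.tmul g n) n' = LocGen.tmul (LocGen.tmul g n') n := by
  choose V e hx he using (isInvertible_iff N).mp hN
  refine res_ext _ (fun x : U => V x.1 ⊓ U) (fun x => inf_le_right)
    (fun x hxU => Opens.mem_iSup.mpr ⟨⟨x, hxU⟩, hx x, hxU⟩) (fun x => ?_)
  have hg : IsGen (res N inf_le_left (e x.1) : Γ(N, V x.1 ⊓ U)) := (he x.1).res _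
  obtain ⟨a, ha⟩ := hg.exists_eq (res N inf_le_right n)
  obtain ⟨b, hb⟩ := hg.exists_eq (res N inf_le_right n')
  rw [res_tmul, res_tmul, res_tmul, res_tmul, ha, hb, tmul_smul, tmul_smul, tmul_smul, tmul_smul, smul_tmul,
    smul_tmul, smul_smul, smul_smul, mul_comm]

/-- **`N ⊗ (mulS s G) = mulS s (N ⊗ G)`.** -/
theorem mapT_mulS (hN : PicF.IsInvertible N) (s : Coh.structureModule X ⟶ N) (G : X.Modules) :
    Ega2.Tens.mapT (𝟙 N) (mulS s G) = mulS s (CohB1.tensorMod N G) := by
  refine Ega2.Tens.hom_ext _ _ fun U n g => ?_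
  refine (CohqB.TwistMono.mapT_tmul' (𝟙 N) (mulS s G) n g).trans ?_
  have h1 := mulS_app s (CohB1.tensorMod N G) (LocGen.tmul n g)
  refine Eq.trans ?_ h1.symm
  rw [mulS_app]
  exact tmul_comm_left hN G n (sec s U) g

/-! ### The right-handed version -/

/-- Multiplication by `s`, as a natural transformation `F ⟶ F ⊗ N`. -/
noncomputable def nuG (s : Coh.structureModule X ⟶ N) : 𝟭 X.Modules ⟶ DCoh.tensorRightMod N :=
  tensorRightModUnit.inv ≫ tensorRightModMap s

theorem nuG_app_app (s : Coh.structureModule X ⟶ N) (F : X.Modules) (U : X.Opens) (t : Γ(F, U)) :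
    ((nuG s).app F).app U t = Ega2.Tens.tmul t (sec s U) := by
  have h := tensorRightModMap_tmul s F U t (Ega2.Tens.sm (1 : Γ(X, U)))
  refine Eq.trans ?_ h
  change ((tensorRightModMap s).app F).app U ((Ega2.Tens.runit F).inv.app U t) = _
  rw [Ega2.Tens.runit_inv_app]

theorem nuG_eq (s : Coh.structureModule X ⟶ N) (F : X.Modules) :
    (nuG s).app F = mulS s F ≫ (Ega2.Tens.swap N F).hom := by
  ext U t
  refine (nuG_app_app s F U t).trans ?_
  have h1 : (mulS s F ≫ (Ega2.Tens.swap N F).hom).app U t =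
      (Ega2.Tens.swap N F).hom.app U ((mulS s F).app U t) := rfl
  refine Eq.trans ?_ h1.symm
  rw [mulS_app]
  exact (Ega2.TensPow.swap_tmul _ _).symm

theorem nu_eq_nuG {k : Type u} [Field k] {n : ℕ} (s : Coh.structureModule (CohB1.ProjSpace n k) ⟶ O k n 1) :
    nu s = nuG s := rfl

/-- **`(nuG s G) ⊗ N = nuG s (G ⊗ N)`.** -/
theorem map_nuG (hN : PicF.IsInvertible N) (s : Coh.structureModule X ⟶ N) (G : X.Modules) :
    (DCoh.tensorRightMod N).map ((nuG s).app G) = (nuG s).app ((DCoh.tensorRightMod N).obj G) := by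
  refine Ega2.Tens.hom_ext _ _ fun U g n => ?_
  refine (tensorRightMod_map_tmul N ((nuG s).app G) U g n).trans ?_
  refine Eq.trans ?_ (nuG_app_app s ((DCoh.tensorRightMod N).obj G) U (Ega2.Tens.tmul g n)).symm
  rw [nuG_app_app]
  exact tmul_comm_right hN G (sec s U) n g

/-! ### Iterated multiplication -/

/-- `(..(E ⊗ N) ⊗ N ..) ⊗ N`. -/
noncomputable def iterR (N : X.Modules) : ℕ → X.Modules → X.Modules
  | 0, E => E
  | a + 1, E => (DCoh.tensorRightMod N).obj (iterR N a E)

/-- `a`-fold multiplication by `s`. -/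
noncomputable def nuI (s : Coh.structureModule X ⟶ N) : (a : ℕ) → (E : X.Modules) → (E ⟶ iterR N a E)
  | 0, E => 𝟙 E
  | a + 1, E => nuI s a E ≫ (nuG s).app (iterR N a E)

/-- `iterT N a E ≅ iterR N a E`. -/
noncomputable def iterIso (N : X.Modules) : (a : ℕ) → (E : X.Modules) → (iterT N a E ≅ iterR N a E)
  | 0, E => Iso.refl E
  | a + 1, E => Ega2.Tens.swap N (iterT N a E) ≪≫ (DCoh.tensorRightMod N).mapIso (iterIso N a E)

theorem mulI_iterIso (s : Coh.structureModule X ⟶ N) (a : ℕ) (E : X.Modules) :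
    mulI s a E ≫ (iterIso N a E).hom = nuI s a E := by
  induction a with
  | zero => exact Category.id_comp _
  | succ a ih =>
    change (mulI s a E ≫ mulS s (iterT N a E)) ≫ (Ega2.Tens.swap N (iterT N a E)).hom ≫
      (DCoh.tensorRightMod N).map (iterIso N a E).hom = nuI s a E ≫ (nuG s).app (iterR N a E)
    have h1 : mulS s (iterT N a E) ≫ (Ega2.Tens.swap N (iterT N a E)).hom = (nuG s).app (iterT N a E) :=
      (nuG_eq s _).symm
    have h2 : (nuG s).app (iterT N a E) ≫ (DCoh.tensorRightMod N).map (iterIso N a E).hom =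
        (iterIso N a E).hom ≫ (nuG s).app (iterR N a E) := ((nuG s).naturality _).symm
    rw [← ih, Category.assoc, Category.assoc, ← h2, ← h1]
    exact congrArg (fun t => mulI s a E ≫ t) (Category.assoc _ _ _).symm

/-- `coker (mulI s a E) ≅ coker (nuI s a E)`. -/
noncomputable def cokIso (s : Coh.structureModule X ⟶ N) (a : ℕ) (E : X.Modules) :
    cokernel (mulI s a E) ≅ cokernel (nuI s a E) :=
  (cokernelCompIsIso (mulI s a E) (iterIso N a E).hom).symm ≪≫ cokernelIsoOfEq (mulI_iterIso s a E)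

/-! ### Monomorphisms -/

theorem mono_nuG_iff (s : Coh.structureModule X ⟶ N) (F : X.Modules) : Mono ((nuG s).app F) ↔ Mono (mulS s F) := by
  constructor
  · intro h
    rw [nuG_eq] at h
    have h1 : Mono (mulS s F ≫ (Ega2.Tens.swap N F).hom) := h
    exact mono_of_mono _ (Ega2.Tens.swap N F).hom
  · intro h
    have h1 : Mono (mulS s F ≫ (Ega2.Tens.swap N F).hom) := mono_comp _ _
    rw [nuG_eq]
    exact h1

theorem mono_map (hN : PicF.IsInvertible N) {F G : X.Modules} (φ : F ⟶ G) [Mono φ] :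
    Mono ((DCoh.tensorRightMod N).map φ) := by
  have := preservesFiniteLimits_tensorRightMod N (PerfB.TensInv.isFlat_of_isInvertible hN)
  exact (inferInstance : (DCoh.tensorRightMod N).PreservesMonomorphisms).preserves φ

theorem mono_nuG_iterR (hN : PicF.IsInvertible N) (s : Coh.structureModule X ⟶ N) {E : X.Modules}
    (h : Mono (mulS s E)) (a : ℕ) : Mono ((nuG s).app (iterR N a E)) := by
  induction a with
  | zero => exact (mono_nuG_iff s E).mpr h
  | succ a ih =>
    have h1 := map_nuG hN s (iterR N a E)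
    have h2 : Mono ((nuG s).app ((DCoh.tensorRightMod N).obj (iterR N a E))) := by
      rw [← h1]
      exact mono_map hN _
    exact h2

theorem mono_nuI (hN : PicF.IsInvertible N) (s : Coh.structureModule X ⟶ N) {E : X.Modules}
    (h : Mono (mulS s E)) (a : ℕ) : Mono (nuI s a E) := by
  induction a with
  | zero => exact (inferInstance : Mono (𝟙 E))
  | succ a ih =>
    have h1 := mono_nuG_iterR hN s h a
    exact mono_comp (nuI s a E) ((nuG s).app (iterR N a E))

theorem mono_mulI (hN : PicF.IsInvertible N) (s : Coh.structureModule X ⟶ N) {E : X.Modules}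
    (h : Mono (mulS s E)) (a : ℕ) : Mono (mulI s a E) := by
  have h1 := mono_nuI hN s h a
  rw [← mulI_iterIso] at h1
  exact mono_of_mono _ (iterIso N a E).hom

theorem mono_mulS_iterT (hN : PicF.IsInvertible N) (s : Coh.structureModule X ⟶ N) {E : X.Modules}
    (h : Mono (mulS s E)) (a : ℕ) : Mono (mulS s (iterT N a E)) := by
  rw [← mono_nuG_iff]
  have h1 := mono_nuG_iterR hN s h a
  have h2 : (nuG s).app (iterT N a E) ≫ (DCoh.tensorRightMod N).map (iterIso N a E).hom =
      (iterIso N a E).hom ≫ (nuG s).app (iterR N a E) := ((nuG s).naturality _).symm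
  have h3 : Mono ((iterIso N a E).hom ≫ (nuG s).app (iterR N a E)) := mono_comp _ _
  rw [← h2] at h3
  exact mono_of_mono _ ((DCoh.tensorRightMod N).map (iterIso N a E).hom)

end K981.Sw
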