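import Groth.Agent.ShStab.K981.SecBound
import Groth.Agent.ShStab.K781.Base

/-!
# Node W (namespace `K981.NodeW`)
-/

set_option autoImplicit false
universe u

namespace K981.NodeW

/-- **Node W.** -/
theorem stmtW : K781.Base.StmtW.{u} := fun k _ _ _ g c E R π hE hR hπ hd hreg P hP m hm =>
  K981.SecBound.main k g c E R π hE hR hπ hd hreg P hP m hm

end K981.NodeW
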