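import Groth.Agent.ShStab.K847.GLTwist
import Groth.Agent.PerfB.TensExact
import Groth.Agent.S1526

/-!
# Lower bound for the number of sections of quotients of a regular module (namespace `K981.SecBound`)

`main`: `E ⟶ R` an epimorphism of coherent modules on `P^n_k`, `k` infinite, `dim Supp E ≤ g`, `E` `c`-regular in the
sense `H^i(E(q)) = 0` for all `i ≥ 1`, `q ≥ c - i`.  For `m ≥ c` the rank of `H^0(E(m)) ⟶ H^0(R(m))` is at least
`α_g(R) * (m - c + g choose g)`.
-/

set_option autoImplicit false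
universe u
open CategoryTheory CategoryTheory.Limits AlgebraicGeometry TopologicalSpace Polynomial

namespace K981.SecBound

open Groth.Agent Groth.Agent.Fdesc Groth.Agent.Fdesc.LocGen Groth.Agent.Fga.RegSec Groth.Agent.Fga.PicMon ShStab
  K847.StabBasic K847.AssPure K847.CutAlg K847.Cut K847.Lin K847.TwistSS StabCat Groth.Agent.VarietyB.EulerBinom
  Groth.Agent.FormalA.HHLin K847.Pn K847.GL K847.HilbBasic K847.GLTwist K847.CurveVan Groth.Agent.PerfB.TensExact

/-! ### Linear algebra -/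

section linalg

variable {k A₁ A₂ A₃ B₁ B₂ B₃ : Type*} [Field k] [AddCommGroup A₁] [Module k A₁] [AddCommGroup A₂] [Module k A₂]
  [AddCommGroup A₃] [Module k A₃] [AddCommGroup B₁] [Module k B₁] [AddCommGroup B₂] [Module k B₂]
  [AddCommGroup B₃] [Module k B₃]

theorem rank_add_rank_le [Module.Finite k B₂] (a : A₁ →ₗ[k] A₂) (a' : A₂ →ₗ[k] A₃) (b : B₁ →ₗ[k] B₂)
    (b' : B₂ →ₗ[k] B₃) (p₁ : A₁ →ₗ[k] B₁) (p₂ : A₂ →ₗ[k] B₂) (p₃ : A₃ →ₗ[k] B₃) (ha : Function.Surjective a')
    (hb : Function.Injective b) (hbb : ∀ x, b' (b x) = 0) (h1 : ∀ x, p₂ (a x) = b (p₁ x))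
    (h2 : ∀ x, p₃ (a' x) = b' (p₂ x)) :
    Module.finrank k (LinearMap.range p₁) + Module.finrank k (LinearMap.range p₃) ≤
      Module.finrank k (LinearMap.range p₂) := by
  set I := LinearMap.range p₂ with hI
  have hfI : Module.Finite k I := inferInstance
  let f : I →ₗ[k] B₃ := b'.domRestrict I
  have hr : LinearMap.range f = LinearMap.range p₃ := by
    apply le_antisymm
    · rintro _ ⟨⟨_, x, rfl⟩, rfl⟩
      exact ⟨a' x, h2 x⟩
    · rintro _ ⟨z, rfl⟩
      obtain ⟨x, rfl⟩ := ha z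
      exact ⟨⟨p₂ x, x, rfl⟩, (h2 x).symm⟩
  have hk : Module.finrank k (LinearMap.range p₁) ≤ Module.finrank k (LinearMap.ker f) := by
    let g : LinearMap.range p₁ →ₗ[k] LinearMap.ker f :=
      LinearMap.codRestrict _ (LinearMap.codRestrict I (b.domRestrict (LinearMap.range p₁)) (by
        rintro ⟨_, x, rfl⟩
        exact ⟨a x, h1 x⟩)) (by
        rintro ⟨_, x, rfl⟩
        exact hbb _)
    have hg : Function.Injective g := by
      intro x y hxy
      apply Subtype.ext
      apply hb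
      exact congrArg (fun z : LinearMap.ker f => ((z : I) : B₂)) hxy
    exact LinearMap.finrank_le_finrank_of_injective hg
  have h3 := LinearMap.finrank_range_add_finrank_ker f
  rw [hr] at h3
  omega

theorem rank_conj (p : A₁ →ₗ[k] B₁) (q : A₂ →ₗ[k] B₂) (e : A₁ ≃ₗ[k] A₂) (f : B₁ ≃ₗ[k] B₂)
    (h : ∀ x, q (e x) = f (p x)) :
    Module.finrank k (LinearMap.range p) = Module.finrank k (LinearMap.range q) := by
  have h1 : (LinearMap.range p).map (f : B₁ →ₗ[k] B₂) = LinearMap.range q := by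
    apply le_antisymm
    · rintro _ ⟨_, ⟨x, rfl⟩, rfl⟩
      exact ⟨e x, h x⟩
    · rintro _ ⟨y, rfl⟩
      obtain ⟨x, rfl⟩ := e.surjective y
      exact ⟨p x, ⟨x, rfl⟩, (h x).symm⟩
  rw [← h1]
  exact (LinearEquiv.finrank_map_eq f _).symm

theorem surjective_of_exact (g : B₂ →ₗ[k] B₃) (d : B₃ →ₗ[k] A₁) (h : Function.Exact g d) (hA : Subsingleton A₁) :
    Function.Surjective g := fun x => (h x).mp (Subsingleton.elim _ _)

end linalg

/-! ### Multiplication by a linear form -/

section mul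

variable {k : Type u} [Field k] {n : ℕ}

/-- Multiplication by `s`, as a natural transformation `F ⟶ F(1)`. -/
noncomputable def nu (s : Coh.structureModule (CohB1.ProjSpace n k) ⟶ O k n 1) :
    𝟭 (CohB1.ProjSpace n k).Modules ⟶ DCoh.tensorRightMod (O k n 1) :=
  tensorRightModUnit.inv ≫ tensorRightModMap s

theorem nu_app_app (s : Coh.structureModule (CohB1.ProjSpace n k) ⟶ O k n 1) (F : (CohB1.ProjSpace n k).Modules)
    (U : (CohB1.ProjSpace n k).Opens) (t : Γ(F, U)) :
    ((nu s).app F).app U t = Ega2.Tens.tmul t (sec s U) := by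
  have h := tensorRightModMap_tmul s F U t (Ega2.Tens.sm (1 : Γ(CohB1.ProjSpace n k, U)))
  refine Eq.trans ?_ h
  change ((tensorRightModMap s).app F).app U ((Ega2.Tens.runit F).inv.app U t) = _
  rw [Ega2.Tens.runit_inv_app]

theorem nu_eq (s : Coh.structureModule (CohB1.ProjSpace n k) ⟶ O k n 1) (F : (CohB1.ProjSpace n k).Modules) :
    (nu s).app F = mulS s F ≫ (Ega2.Tens.swap (O k n 1) F).hom := by
  ext U t
  refine (nu_app_app s F U t).trans ?_
  have h1 : (mulS s F ≫ (Ega2.Tens.swap (O k n 1) F).hom).app U t =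
      (Ega2.Tens.swap (O k n 1) F).hom.app U ((mulS s F).app U t) := rfl
  refine Eq.trans ?_ h1.symm
  rw [mulS_app]
  exact (Ega2.TensPow.swap_tmul _ _).symm

/-- `F(1)(t) ≅ F(t + 1)`, natural in `F`. -/
theorem exists_natIso (t : ℤ) : Nonempty (DCoh.tensorRightMod (O k n 1) ⋙ DCoh.tensorRightMod (O k n t) ≅
    DCoh.tensorRightMod (O k n (t + 1))) := by
  obtain ⟨e⟩ := Sga67.SerreVB.nonempty_twist_mul n k 1 t
  rw [add_comm 1 t] at e
  exact ⟨tensorRightModComp _ _ ≪≫ tensorRightModCongr e⟩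

/-- The short complex `F ⟶ F(1) ⟶ C`. -/
noncomputable abbrev SC (s : Coh.structureModule (CohB1.ProjSpace n k) ⟶ O k n 1)
    (F : (CohB1.ProjSpace n k).Modules) : ShortComplex (CohB1.ProjSpace n k).Modules :=
  ShortComplex.mk ((nu s).app F) (cokernel.π ((nu s).app F)) (cokernel.condition _)

theorem isNoeth : IsLocallyNoetherian (CohB1.ProjSpace n k) := by
  have := Fga.IntAdd.isNoetherian k (CohB1.ProjSpace n k)
  infer_instance

theorem SC_shortExact (s : Coh.structureModule (CohB1.ProjSpace n k) ⟶ O k n 1)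
    {F : (CohB1.ProjSpace n k).Modules} (hF : Coh.IsCoh F) (hA : AssSch.Ass F ⊆ CohB1.genLocus (O k n 1) s) :
    (SC s F).ShortExact := by
  have := isNoeth (k := k) (n := n)
  have hm : Mono (mulS s F) := mono_mulS (isAmple_O_one k n).1 s hF hA
  have hm1 : Mono (mulS s F ≫ (Ega2.Tens.swap (O k n 1) F).hom) := mono_comp _ _
  have hm' : Mono ((nu s).app F) := by
    rw [nu_eq]
    exact hm1
  exact { exact := ShortComplex.exact_cokernel _
          mono_f := hm'
          epi_g := (inferInstance : Epi (cokernel.π ((nu s).app F))) }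

theorem isCoh_X3 (s : Coh.structureModule (CohB1.ProjSpace n k) ⟶ O k n 1)
    {F : (CohB1.ProjSpace n k).Modules} (hF : Coh.IsCoh F) : Coh.IsCoh (cokernel ((nu s).app F)) :=
  Sga67.CohBasic.isCoh_cokernel _ hF.1 (isCoh_tw hF 1)

theorem dim_X3 (s : Coh.structureModule (CohB1.ProjSpace n k) ⟶ O k n 1)
    {F : (CohB1.ProjSpace n k).Modules} (hF : Coh.IsCoh F) (hA : AssSch.Ass F ⊆ CohB1.genLocus (O k n 1) s) (g : ℕ)
    (hd : topologicalKrullDim (CohB1.support F) ≤ ((g + 1 : ℕ) : WithBot ℕ∞)) :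
    topologicalKrullDim (CohB1.support (cokernel ((nu s).app F))) ≤ (g : WithBot ℕ∞) := by
  have := isNoeth (k := k) (n := n)
  refine dim_support_le_of_ass (isCoh_X3 s hF) _ fun x hx => ?_
  have h1 : x ∈ CohB1.support (cokernel (mulS s F)) := by
    have h2 : x ∈ CohB1.support (cokernel ((nu s).app F)) := mem_support_of_mem_ass hx
    have e : cokernel (mulS s F ≫ (Ega2.Tens.swap (O k n 1) F).hom) ≅ cokernel (mulS s F) := cokernelCompIsIso _ _
    rw [nu_eq] at h2
    have h3 : x ∈ CohB1.support (cokernel (mulS s F ≫ (Ega2.Tens.swap (O k n 1) F).hom)) := h2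
    rwa [CohqB.DevSupport.support_congr e] at h3
  rw [support_cokernel_mulS s F (isAmple_O_one k n).1 hF.2] at h1
  obtain ⟨y, hy, hyx⟩ := exists_ass_specializes hF h1.1
  have hne : x ≠ y := by
    rintro rfl
    exact h1.2 (hA hy)
  exact dim_closure_le_of_specializes hyx hne g ((dim_closure_le hF (mem_support_of_mem_ass hy)).trans hd)

end mul

/-! ### The induction -/

/-- Regularity: `H^i(E(q)) = 0` for `i ≥ 1` and `q ≥ c - i`. -/
def Reg (k : Type u) [Field k] {n : ℕ} (E : (CohB1.ProjSpace n k).Modules) (c : ℤ) : Prop :=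
  ∀ i : ℕ, 1 ≤ i → ∀ q : ℤ, c - i ≤ q → Subsingleton (Coh.HH (CohB1.ProjSpace n k) (tw E q) i)

section step

variable (k : Type u) [Field k] {n : ℕ}

theorem HH_sq {F G F' G' : (CohB1.ProjSpace n k).Modules} {f : F ⟶ G} {q : G ⟶ G'} {p : F ⟶ F'} {g : F' ⟶ G'}
    (h : f ≫ q = p ≫ g) (i : ℕ) (x : Coh.HH (CohB1.ProjSpace n k) F i) :
    HHmap k q i (HHmap k f i x) = HHmap k g i (HHmap k p i x) := by
  rw [HHmap_comp_apply, HHmap_comp_apply, h]

theorem twm_sq {F G F' G' : (CohB1.ProjSpace n k).Modules} {f : F ⟶ G} {q : G ⟶ G'} {p : F ⟶ F'} {g : F' ⟶ G'}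
    (h : f ≫ q = p ≫ g) (t : ℤ) : twm f t ≫ twm q t = twm p t ≫ twm g t := by
  change (DCoh.tensorRightMod _).map _ ≫ (DCoh.tensorRightMod _).map _ =
    (DCoh.tensorRightMod _).map _ ≫ (DCoh.tensorRightMod _).map _
  rw [← Functor.map_comp, ← Functor.map_comp, h]

theorem subsingleton_tw_tw {E : (CohB1.ProjSpace n k).Modules} {q : ℤ} {i : ℕ}
    (h : Subsingleton (Coh.HH (CohB1.ProjSpace n k) (tw E (q + 1)) i)) :
    Subsingleton (Coh.HH (CohB1.ProjSpace n k) (tw (tw E 1) q) i) := by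
  obtain ⟨e⟩ := exists_natIso (k := k) (n := n) q
  have e' : tw (tw E 1) q ≅ tw E (q + 1) := e.app E
  exact (hmapEquiv k _ e' i).toEquiv.subsingleton

theorem reg_cokernel (s : Coh.structureModule (CohB1.ProjSpace n k) ⟶ O k n 1)
    {E : (CohB1.ProjSpace n k).Modules} (hE : Coh.IsCoh E) (hA : AssSch.Ass E ⊆ CohB1.genLocus (O k n 1) s) {c : ℤ}
    (hR : Reg k E c) : Reg k (cokernel ((nu s).app E)) (c - 1) := by
  intro i hi q hq
  have hS := shortExact_twist k n (SC_shortExact s hE hA) q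
  refine subsingleton_of_exact (HHmap k (twm (SC s E).g q) i) (FormalB.HHLes.δ k hS i)
      (FormalB.HHLes.exact_map_δ k hS i) ?_ ?_
  · exact subsingleton_tw_tw k (hR i hi (q + 1) (by omega))
  · exact hR (i + 1) (by omega) q (by push_cast; omega)

/-- The rank of `H^0(π(m))`. -/
noncomputable def rk {E R : (CohB1.ProjSpace n k).Modules} (π : E ⟶ R) (m : ℤ) : ℕ :=
  Module.finrank k (LinearMap.range (HHmap k (twm π m) 0))

theorem rk_succ {E R : (CohB1.ProjSpace n k).Modules} (π : E ⟶ R) (m : ℤ) :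
    rk k (twm π 1) m = rk k π (m + 1) := by
  obtain ⟨e⟩ := exists_natIso (k := k) (n := n) m
  obtain ⟨eE, eR, h⟩ : ∃ (eE : tw (tw E 1) m ≅ tw E (m + 1)) (eR : tw (tw R 1) m ≅ tw R (m + 1)),
      eE.hom ≫ twm π (m + 1) = twm (twm π 1) m ≫ eR.hom := ⟨e.app E, e.app R, (e.hom.naturality π).symm⟩
  refine rank_conj _ _ (hmapEquiv k _ eE 0) (hmapEquiv k _ eR 0) fun x => ?_
  have h1 : HHmap k (twm π (m + 1)) 0 (HHmap k eE.hom 0 x) = HHmap k eR.hom 0 (HHmap k (twm (twm π 1) m) 0 x) := by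
    rw [HHmap_comp_apply, HHmap_comp_apply, h]
  exact h1

/-- The induced map on the cokernels. -/
noncomputable def ind (s : Coh.structureModule (CohB1.ProjSpace n k) ⟶ O k n 1)
    {E R : (CohB1.ProjSpace n k).Modules} (π : E ⟶ R) : cokernel ((nu s).app E) ⟶ cokernel ((nu s).app R) :=
  cokernel.map _ _ π (twm π 1) ((nu s).naturality π).symm

theorem epi_ind (s : Coh.structureModule (CohB1.ProjSpace n k) ⟶ O k n 1)
    {E R : (CohB1.ProjSpace n k).Modules} (π : E ⟶ R) [Epi π] : Epi (ind k s π) := by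
  have hepi : Epi (twm π 1) := by
    have : (DCoh.tensorRightMod (O k n 1)).PreservesEpimorphisms := inferInstance
    exact this.preserves π
  have h2 : Epi (cokernel.π ((nu s).app R)) := inferInstance
  have h : Epi (cokernel.π ((nu s).app E) ≫ ind k s π) := by
    have h1 : cokernel.π ((nu s).app E) ≫ ind k s π = twm π 1 ≫ cokernel.π ((nu s).app R) :=
      cokernel.π_desc _ _ _
    rw [h1]
    exact @epi_comp _ _ _ _ _ (twm π 1) hepi (cokernel.π ((nu s).app R)) h2
  exact epi_of_epi (cokernel.π ((nu s).app E)) _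

theorem rk_add_le (s : Coh.structureModule (CohB1.ProjSpace n k) ⟶ O k n 1)
    {E R : (CohB1.ProjSpace n k).Modules} (π : E ⟶ R) (hE : Coh.IsCoh E) (hR : Coh.IsCoh R)
    (hAE : AssSch.Ass E ⊆ CohB1.genLocus (O k n 1) s) (hAR : AssSch.Ass R ⊆ CohB1.genLocus (O k n 1) s) (t : ℤ)
    (h1 : Subsingleton (Coh.HH (CohB1.ProjSpace n k) (tw E t) 1)) :
    rk k π t + rk k (ind k s π) t ≤ rk k π (t + 1) := by
  have hSE := shortExact_twist k n (SC_shortExact s hE hAE) t
  have hSR := shortExact_twist k n (SC_shortExact s hR hAR) t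
  rw [← rk_succ]
  have hfin : Module.Finite k (Coh.HH (CohB1.ProjSpace n k) (tw (SC s R).X₂ t) 0) :=
    S0002.result k _ _ (isCoh_tw (isCoh_tw hR 1) t) 0
  have hmR : Mono (twm (SC s R).f t) := hSR.mono_f
  refine rank_add_rank_le (HHmap k (twm (SC s E).f t) 0) (HHmap k (twm (SC s E).g t) 0)
    (HHmap k (twm (SC s R).f t) 0) (HHmap k (twm (SC s R).g t) 0) _ _ _ ?_ ?_ ?_ ?_ ?_
  · exact surjective_of_exact _ _ (FormalB.HHLes.exact_map_δ k hSE 0) h1
  · exact HH0_injective k (twm (SC s R).f t)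
  · intro x
    exact (FormalB.HHLes.exact_map_map k hSR 0 _).mpr ⟨x, rfl⟩
  · have h : twm ((nu s).app E) t ≫ twm (twm π 1) t = twm π t ≫ twm ((nu s).app R) t :=
      twm_sq k (((nu s).naturality π).symm) t
    exact fun x => HH_sq k h 0 x
  · have h : twm (cokernel.π ((nu s).app E)) t ≫ twm (ind k s π) t =
        twm (twm π 1) t ≫ twm (cokernel.π ((nu s).app R)) t :=
      twm_sq k (cokernel.π_desc _ _ _) t
    exact fun x => HH_sq k h 0 x

theorem HP_cokernel (s : Coh.structureModule (CohB1.ProjSpace n k) ⟶ O k n 1)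
    {R : (CohB1.ProjSpace n k).Modules} (hR : Coh.IsCoh R) (hAR : AssSch.Ass R ⊆ CohB1.genLocus (O k n 1) s)
    {P : ℚ[X]} (hP : HP k R P) : HP k (cokernel ((nu s).app R)) (P.comp (X + C 1) - P) := by
  intro t
  have h1 := euler_obj_add k n (SC_shortExact s hR hAR) hR (isCoh_tw hR 1) (isCoh_X3 s hR) t
  have h2 := HP_tw k hP 1 t
  have h3 := hP t
  rw [eval_sub, ← h3]
  rw [Int.cast_one] at h2
  rw [← h2]
  have h4 : ((Curv2.euler k (CohB1.ProjSpace n k) (tw (tw R 1) t) : ℤ) : ℚ) =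
      Curv2.euler k (CohB1.ProjSpace n k) (tw R t) +
        Curv2.euler k (CohB1.ProjSpace n k) (tw (cokernel ((nu s).app R)) t) := by
    exact_mod_cast h1
  exact (sub_eq_of_eq_add' h4).symm

/-- **Lower bound for the number of sections.** -/
theorem main [Infinite k] (g : ℕ) : ∀ (c : ℤ) (E R : (CohB1.ProjSpace n k).Modules) (π : E ⟶ R), Coh.IsCoh E →
    Coh.IsCoh R → Epi π → topologicalKrullDim (CohB1.support E) ≤ (g : WithBot ℕ∞) → Reg k E c →
    ∀ P : ℚ[X], HP k R P → ∀ m : ℤ, c ≤ m →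
      alpha g P * (((m - c + g).toNat.choose g : ℕ) : ℚ) ≤ (rk k π m : ℚ) := by
  induction g with
  | zero =>
    intro c E R π hE hR hπ hd hreg P hP m hm
    have hdR : topologicalKrullDim (CohB1.support R) ≤ ((0 : ℕ) : WithBot ℕ∞) := (dim_support_le_of_epi π).trans hd
    have hK : Coh.IsCoh (kernel π) := Sga67.CohBasic.isCoh_kernel π hE hR.1
    have hdK : topologicalKrullDim (CohB1.support (kernel π)) ≤ ((0 : ℕ) : WithBot ℕ∞) :=
      (dim_support_le_of_mono (kernel.ι π)).trans hd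
    have van : ∀ {F : (CohB1.ProjSpace n k).Modules}, Coh.IsCoh F →
        topologicalKrullDim (CohB1.support F) ≤ ((0 : ℕ) : WithBot ℕ∞) → ∀ (t : ℤ) (i : ℕ), 1 ≤ i →
        Subsingleton (Coh.HH (CohB1.ProjSpace n k) (tw F t) i) := by
      intro F hF hdF t i hi
      refine S1526.result k _ _ (isCoh_tw hF t) ?_ i hi
      rw [support_tensor_right (O_inv t)]
      exact hdF
    have hS : (ShortComplex.mk (kernel.ι π) π (kernel.condition π)).ShortExact :=
      { exact := ShortComplex.exact_kernel π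
        mono_f := (inferInstance : Mono (kernel.ι π))
        epi_g := hπ }
    have hSm := shortExact_twist k n hS m
    have hsurj : Function.Surjective (HHmap k (twm π m) 0) :=
      surjective_of_exact _ _ (FormalB.HHLes.exact_map_δ k hSm 0) (van hK hdK m 1 le_rfl)
    have h1 := Fga.MumReg.euler_large R m (fun i hi => van hR hdR m i hi)
    have h2 : rk k π m = Module.finrank k (Coh.HH (CohB1.ProjSpace n k) (tw R m) 0) := by
      unfold rk
      rw [LinearMap.range_eq_top.mpr hsurj, finrank_top]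
    have h3 : P.natDegree ≤ 0 := natDegree_le k (isAmple_O_one k n).1 hR hdR (isHilbPoly_of_HP k hP)
    have h4 : P.eval (m : ℚ) = P.coeff 0 := by
      rw [eq_C_of_natDegree_le_zero h3, eval_C, coeff_C_zero]
    have h5 := hP m
    rw [h1, h4] at h5
    rw [h2]
    have h6 : alpha 0 P = P.coeff 0 := by simp [alpha]
    rw [h6, ← h5, Nat.choose_zero_right]
    simp
  | succ g ih =>
    intro c E R π hE hR hπ hd hreg P hP m hm
    have hN := isNoeth (k := k) (n := n)
    obtain ⟨s, hs⟩ := exists_section_avoiding k (Coh.toGlobal ((CohB1.ProjSpace n k) ↘ Spec (CommRingCat.of k)))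
      (isAmple_O_one k n).1 (exists_mem_genLocus k n) (AssSch.Ass E ∪ AssSch.Ass R)
      ((SubFilt.finite_ass hE).union (SubFilt.finite_ass hR))
    have hAE := Set.subset_union_left.trans hs
    have hAR := Set.subset_union_right.trans hs
    have hdR : topologicalKrullDim (CohB1.support R) ≤ ((g + 1 : ℕ) : WithBot ℕ∞) := (dim_support_le_of_epi π).trans hd
    have hdeg : P.natDegree ≤ g + 1 := natDegree_le k (isAmple_O_one k n).1 hR hdR (isHilbPoly_of_HP k hP)
    have hal : alpha g (P.comp (X + C 1) - P) = alpha (g + 1) P := by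
      unfold alpha
      rw [coeff_sub, coeff_comp_pred hdeg, Nat.factorial_succ]
      push_cast
      ring
    have hIH := ih (c - 1) _ _ (ind k s π) (isCoh_X3 s hE) (isCoh_X3 s hR) (epi_ind k s π) (dim_X3 s hE hAE g hd)
      (reg_cokernel k s hE hAE hreg) _ (HP_cokernel k s hR hAR hP)
    rw [hal] at hIH
    -- induction on `m`
    obtain ⟨j, rfl⟩ : ∃ j : ℕ, m = c + j := ⟨(m - c).toNat, by omega⟩
    clear hm
    induction j with
    | zero =>
      have h1 := hIH (c - 1) le_rfl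
      have h2 := rk_add_le k s π hE hR hAE hAR (c - 1) (hreg 1 le_rfl (c - 1) (by simp))
      have h3 : (rk k (ind k s π) (c - 1) : ℚ) ≤ rk k π (c - 1 + 1) := by
        exact_mod_cast (by omega : rk k (ind k s π) (c - 1) ≤ rk k π (c - 1 + 1))
      rw [sub_add_cancel] at h3
      have h4 := h1.trans h3
      have e1 : (c - 1 - (c - 1) + (g : ℤ)).toNat.choose g = 1 := by
        rw [show (c - 1 - (c - 1) + (g : ℤ)).toNat = g by omega, Nat.choose_self]
      have e2 : (c + ((0 : ℕ) : ℤ) - c + ((g + 1 : ℕ) : ℤ)).toNat.choose (g + 1) = 1 := by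
        rw [show (c + ((0 : ℕ) : ℤ) - c + ((g + 1 : ℕ) : ℤ)).toNat = g + 1 by omega, Nat.choose_self]
      rw [e1] at h4
      rw [e2]
      simpa using h4
    | succ j ihj =>
      have h1 := hIH (c + j) (by omega)
      have h2 := rk_add_le k s π hE hR hAE hAR (c + j) (hreg 1 le_rfl (c + j) (by push_cast; omega))
      have h3 : (rk k π (c + j) : ℚ) + (rk k (ind k s π) (c + j) : ℚ) ≤ rk k π (c + j + 1) := by exact_mod_cast h2
      have e1 : (c + (j : ℤ) - (c - 1) + (g : ℤ)).toNat = j + 1 + g := by omega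
      have e2 : (c + (j : ℤ) - c + ((g + 1 : ℕ) : ℤ)).toNat = j + 1 + g := by omega
      have e3 : (c + ((j + 1 : ℕ) : ℤ) - c + ((g + 1 : ℕ) : ℤ)).toNat = j + 1 + g + 1 := by omega
      have e4 : c + ((j + 1 : ℕ) : ℤ) = c + j + 1 := by push_cast; ring
      rw [e1] at h1
      rw [e2] at ihj
      rw [e3, e4, Nat.choose_succ_succ]
      push_cast
      linarith

end step

end K981.SecBound
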